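import Groth.Agent.L28.ExtShriek.Local
import Groth.Agent.L28.Lisse.Open

/-!
Local constancy of sheaves of modules is local for étale coverings.
-/

set_option autoImplicit false
set_option linter.style.haveILetI false

universe u

open CategoryTheory CategoryTheory.Limits AlgebraicGeometry Opposite GrothendieckTopology

set_option backward.isDefEq.respectTransparency.types false

namespace Groth.L28.ExtShriekMod

variable {Λ : Type (u + 1)} [CommRing Λ] {X W : Scheme.{u}} (j : W ⟶ X) [hj : AlgebraicGeometry.Etale j]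

/-- a trivialisation of the inverse image is a trivialisation -/
theorem trivial_of_pull {F : EtModW.Mod Λ X} {V : W.Etale} {M : ModuleCat.{u + 1} Λ}
    (α : EtModW.restr Λ ((EtModW.pull Λ j).obj F) V ≅
      (constantSheaf (W.smallEtaleTopology.over V) (ModuleCat.{u + 1} Λ)).obj M) :
    Nonempty (EtModW.restr Λ F ((EtShriek.compEtale j).obj V) ≅
      (constantSheaf (X.smallEtaleTopology.over ((EtShriek.compEtale j).obj V)) (ModuleCat.{u + 1} Λ)).obj M) := by
  haveI := Groth.L27.ExtZero.jCont j
  haveI := ExtShriek.isCocontinuous_compEtale j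
  let G : Over V ⥤ Over ((EtShriek.compEtale j).obj V) := Over.post (EtShriek.compEtale j)
  haveI : G.Full := ⟨fun {A B} k => by
    have hk : k.left.left ≫ B.hom.left = A.hom.left := congrArg (fun m => m.left) (Over.w k)
    let m : A.left ⟶ B.left := MorphismProperty.Over.homMk k.left.left
      ((congrArg (fun r => k.left.left ≫ r) (MorphismProperty.Over.w B.hom).symm).trans
        ((Category.assoc _ _ _).symm.trans ((congrArg (fun r => r ≫ V.hom) hk).trans (MorphismProperty.Over.w A.hom))))
    exact ⟨Over.homMk m (MorphismProperty.Over.Hom.ext hk),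
      Over.OverMorphism.ext (MorphismProperty.Over.Hom.ext rfl)⟩⟩
  haveI : G.Faithful := ⟨fun {A B} a b h =>
    Over.OverMorphism.ext ((EtShriek.compEtale j).map_injective (congrArg CommaMorphism.left h))⟩
  haveI : G.EssSurj := ⟨fun Z => by
    let m : (ExtShriek.liftOver j Z.hom).1 ⟶ V := MorphismProperty.Over.homMk Z.hom.left rfl
    let e : (EtShriek.compEtale j).obj (ExtShriek.liftOver j Z.hom).1 ≅ Z.left := MorphismProperty.Over.isoMk (Iso.refl _)
      ((Category.id_comp _).trans ((MorphismProperty.Over.w Z.hom).symm.trans (Category.assoc _ _ _).symm))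
    exact ⟨Over.mk m, ⟨Over.isoMk e (MorphismProperty.Over.Hom.ext (Category.id_comp _))⟩⟩⟩
  haveI : G.IsEquivalence := {}
  haveI : G.IsContinuous (W.smallEtaleTopology.over V)
      (X.smallEtaleTopology.over ((EtShriek.compEtale j).obj V)) :=
    Functor.isContinuous_of_coverPreserving (compatiblePreservingOfFlat _ _)
      ((EtShriek.coverPreserving_compEtale j).overPost V)
  let β : (G.sheafPushforwardContinuous (ModuleCat.{u + 1} Λ) (W.smallEtaleTopology.over V)
      (X.smallEtaleTopology.over ((EtShriek.compEtale j).obj V))).obj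
        (EtModW.restr Λ F ((EtShriek.compEtale j).obj V)) ≅
      (G.sheafPushforwardContinuous (ModuleCat.{u + 1} Λ) (W.smallEtaleTopology.over V)
      (X.smallEtaleTopology.over ((EtShriek.compEtale j).obj V))).obj
        ((constantSheaf (X.smallEtaleTopology.over ((EtShriek.compEtale j).obj V)) (ModuleCat.{u + 1} Λ)).obj M) :=
    ((W.smallEtaleTopology.overPullback (ModuleCat.{u + 1} Λ) V).mapIso ((Lisse.pullIsoRestr j).symm.app F)) ≪≫ α ≪≫
      (LocConst.constCompat (J := W.smallEtaleTopology.over V)
        (K := X.smallEtaleTopology.over ((EtShriek.compEtale j).obj V)) G M).symm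
  exact ⟨(fullyFaithfulSheafToPresheaf _ _).preimageIso
    (((Functor.whiskeringLeft _ _ (ModuleCat.{u + 1} Λ)).obj G.op).preimageIso
      ((sheafToPresheaf _ _).mapIso β))⟩

omit j hj in
/-- local constancy is étale local -/
theorem isFT_of_cover {F : EtModW.Mod Λ X} (h : ∀ x : X, ∃ (T : Scheme.{u}) (g : T ⟶ X) (_ : AlgebraicGeometry.Etale g),
      x ∈ Set.range g ∧ EtModW.IsFTLocConst Λ ((EtModW.pull Λ g).obj F)) :
    EtModW.IsFTLocConst Λ F := by
  choose T g hg hx hF using h
  choose κ V hV hM using hF
  refine ⟨Σ x, κ x, fun p => haveI := hg p.1; (EtShriek.compEtale (g p.1)).obj (V p.1 p.2), fun x => ?_, fun p => ?_⟩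
  · obtain ⟨t, ht⟩ := hx x
    obtain ⟨k, y, hy⟩ := hV x t
    refine ⟨⟨x, k⟩, y, ?_⟩
    show g x ((V x k).hom y) = x
    rw [show (V x k).hom y = t from hy, ht]
  · obtain ⟨M, _, _, hfin, ⟨α⟩⟩ := hM p.1 p.2
    haveI := hg p.1
    exact ⟨M, inferInstance, inferInstance, hfin, trivial_of_pull (g p.1) α⟩

end Groth.L28.ExtShriekMod
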