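import Groth.Agent.L28.ExtShriekMod.BaseChange
import Groth.Agent.L28.ExtShriek.Split
import Groth.Agent.L28.ExtShriekMod.Local
import Groth.Agent.L27.EtSite.Reflect
import Groth.Agent.L28.EtaleStrata.Main
import Mathlib.CategoryTheory.Sites.CoverLifting
import Mathlib.CategoryTheory.Adjunction.Triple
import Mathlib.CategoryTheory.Functor.KanExtension.Adjunction

/-!
Sheaves of modules on a finite disjoint union; the unit of extension by zero along a monomorphism.
-/

set_option autoImplicit false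
set_option linter.style.haveILetI false

universe u

open CategoryTheory CategoryTheory.Limits AlgebraicGeometry Opposite

set_option backward.isDefEq.respectTransparency.types false

namespace Groth.L28.ExtShriekMod

attribute [local instance] Abelian.hasFiniteBiproducts

variable {Λ : Type (u + 1)} [CommRing Λ]

theorem isIso_unit {U X : Scheme.{u}} (j : U ⟶ X) [AlgebraicGeometry.Etale j] [Mono j] [EtShriek.JCont j] :
    IsIso (EtSix.extZeroModAdj Λ j).unit := by
  haveI := ExtShriek.isCocontinuous_compEtale j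
  haveI : (EtShriek.compEtale j).op.Full := inferInstance
  haveI : (EtShriek.compEtale j).op.Faithful := inferInstance
  let adj := (EtShriek.compEtale j).sheafAdjunctionCocontinuous (ModuleCat.{u + 1} Λ) U.smallEtaleTopology X.smallEtaleTopology
  haveI : ∀ F, IsIso (adj.counit.app F) := fun F => by
    haveI : IsIso ((sheafToPresheaf U.smallEtaleTopology (ModuleCat.{u + 1} Λ)).map (adj.counit.app F)) := by
      show IsIso (adj.counit.app F).hom
      rw [Functor.sheafAdjunctionCocontinuous_counit_app_hom]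
      exact NatIso.isIso_app_of_isIso ((EtShriek.compEtale j).op.ranAdjunction (ModuleCat.{u + 1} Λ)).counit F.obj
    exact isIso_of_reflects_iso _ (sheafToPresheaf U.smallEtaleTopology (ModuleCat.{u + 1} Λ))
  haveI : IsIso adj.counit := NatIso.isIso_of_isIso_app _
  exact (Adjunction.Triple.isIso_unit_iff_isIso_counit
    (⟨EtSix.extZeroModAdj Λ j, adj⟩ : Adjunction.Triple _ _ _)).2 inferInstance

theorem isZero_of_isEmpty {X : Scheme.{u}} [IsEmpty X] (F : EtModW.Mod Λ X) : IsZero F := by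
  refine (IsZero.iff_id_eq_zero _).2 (ObjectProperty.hom_ext _ (NatTrans.ext (funext fun V => ?_)))
  haveI : IsEmpty (unop V).left := @Function.isEmpty _ ↥X ‹IsEmpty X› (fun z => (unop V).hom z)
  exact (Sheaf.isTerminalOfBotCover F (unop V) (Groth.L27.EtSite.bot_mem_of_isEmpty (unop V))).hom_ext _ _

theorem isFT_of_isZero {X : Scheme.{u}} {F : EtModW.Mod Λ X} (hF : IsZero F) : EtModW.IsFTLocConst Λ F := by
  refine ⟨PUnit, fun _ => EtCoh.top X, fun x => ⟨PUnit.unit, x, rfl⟩,
    fun _ => ⟨PUnit, inferInstance, inferInstance, inferInstance, ⟨?_⟩⟩⟩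
  haveI := LocConst.res_additive (Λ := Λ) (EtCoh.top X)
  haveI := LocConst.constOver_additive (Λ := Λ) (EtCoh.top X)
  exact (Functor.map_isZero _ hF).iso (Functor.map_isZero _ (ModuleCat.isZero_of_subsingleton _))

theorem isFT_biproduct {X : Scheme.{u}} [IsNoetherianRing Λ] {ι : Type} [Finite ι] (f : ι → EtModW.Mod Λ X)
    (h : ∀ i, EtModW.IsFTLocConst Λ (f i)) : EtModW.IsFTLocConst Λ (⨁ f) := by
  haveI := LocConst.isClosedUnderExtensions (Λ := Λ) (X := X)
  exact ExtShriek.prop_biproduct (fun F : EtModW.Mod Λ X => EtModW.IsFTLocConst Λ F) (fun _ hZ => isFT_of_isZero hZ)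
    (fun e hA => Strata.isFT_of_iso e hA) f h

theorem isConstructible_biproduct {X : Scheme.{u}} [IsNoetherianRing Λ] {ι : Type} [Finite ι] (f : ι → EtModW.Mod Λ X)
    (h : ∀ i, EtModW.IsConstructible Λ (f i)) : EtModW.IsConstructible Λ (⨁ f) := by
  refine (Strata.isConstructibleMod_iff _).2 fun U hU => ?_
  haveI : IsAffine U.toScheme := hU
  have hs : ∀ i, Strata.Strat U.toScheme (Strata.res U.ι (Strata.ftPred (f i))) :=
    fun i => (Strata.isConstructibleMod_iff _).1 (h i) U hU
  refine (EtaleStrata.strat_forall (fun i => Strata.res U.ι (Strata.ftPred (f i)))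
    (fun i => (Strata.stable_ftPred _).res _) hs).mono fun T g hg => ?_
  exact Strata.isFT_of_iso ((EtModW.pull Λ (g ≫ U.ι)).mapBiproduct f).symm (isFT_biproduct _ hg)

/-- isomorphisms are detected on stalks -/
theorem isIso_of_stalks {X : Scheme.{u}} {F G : EtModW.Mod Λ X} (φ : F ⟶ G)
    (h : ∀ (Ω : Type u) [Field Ω] [IsSepClosed Ω] (ξ : Spec (CommRingCat.of Ω) ⟶ X),
      IsIso ((EtModW.stalk Λ ξ).map φ)) : IsIso φ := by
  haveI : AB5OfSize.{u, u} (ModuleCat.{u + 1} Λ) := AB5OfSize_shrink.{u, u, u + 1, u + 1} _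
  haveI : Sheaf.IsLocallyInjective φ := Groth.L27.EtSite.isLocallyInjective_of_stalks _ fun Ω _ _ ξ =>
    haveI := h Ω ξ
    (ConcreteCategory.bijective_of_isIso ((EtModW.stalk Λ ξ).map φ)).1
  haveI : Sheaf.IsLocallySurjective φ := Groth.L27.EtSite.isLocallySurjective_of_stalks _ fun Ω _ _ ξ =>
    haveI := h Ω ξ
    (ConcreteCategory.bijective_of_isIso ((EtModW.stalk Λ ξ).map φ)).2
  haveI := Sheaf.mono_of_isLocallyInjective φ
  haveI : Epi φ := inferInstance
  exact isIso_of_mono_of_epi φ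

section Decomp

variable {Q : Scheme.{u}} {ι : Type} [Finite ι] (T : ι → Scheme.{u}) (σ : ∀ k, T k ⟶ Q)
  [∀ k, IsOpenImmersion (σ k)]
  (hdis : Pairwise fun k l => Disjoint (Set.range (σ k)) (Set.range (σ l)))
  (hcov : ∀ x : Q, ∃ k, x ∈ Set.range (σ k))

omit [Finite ι] in
include hdis in
theorem isZero_restr_extZero {k i : ι} (hki : k ≠ i) (H : EtModW.Mod Λ (T i)) :
    IsZero ((EtSix.restrMod Λ (σ k)).obj ((EtSix.extZeroMod Λ (σ i)).obj H)) := by
  haveI : IsEmpty ↥(pullback (σ i) (σ k)) := ⟨fun z => Set.disjoint_left.1 (hdis hki)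
    ⟨pullback.snd (σ i) (σ k) z, rfl⟩
    ⟨pullback.fst (σ i) (σ k) z, congr($(pullback.condition (f := σ i) (g := σ k)) z)⟩⟩
  haveI := Groth.L27.ExtZero.jCont (pullback.snd (σ i) (σ k))
  refine IsZero.of_iso ?_ ((Lisse.pullIsoRestr (σ k)).app _).symm
  refine IsZero.of_iso ?_ ((extZeroPullIso Λ (IsPullback.of_hasPullback (σ i) (σ k))).app H)
  exact Functor.map_isZero (EtSix.extZeroMod Λ (pullback.snd (σ i) (σ k))) (isZero_of_isEmpty ((EtModW.pull Λ (pullback.fst (σ i) (σ k))).obj H))

include hdis hcov in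
theorem nonempty_decomp (G : EtModW.Mod Λ Q) :
    Nonempty ((⨁ fun k => (EtSix.extZeroMod Λ (σ k)).obj ((EtSix.restrMod Λ (σ k)).obj G)) ≅ G) := by
  classical
  let M := fun k => (EtSix.extZeroMod Λ (σ k)).obj ((EtSix.restrMod Λ (σ k)).obj G)
  let φ : (⨁ M) ⟶ G := biproduct.desc fun k => (EtSix.extZeroModAdj Λ (σ k)).counit.app G
  haveI := Fintype.ofFinite ι
  have hrestr : ∀ k, IsIso ((EtSix.restrMod Λ (σ k)).map φ) := by
    intro k
    let R := EtSix.restrMod Λ (σ k)
    haveI : R.Additive := inferInstance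
    have hι : IsIso (R.map (biproduct.ι M k)) := by
      refine ⟨R.map (biproduct.π M k), ?_, ?_⟩
      · rw [← R.map_comp, biproduct.ι_π_self, R.map_id]
      · refine Eq.trans ?_ (R.map_id (⨁ M))
        refine Eq.trans ?_ (congrArg (fun m => R.map m) (biproduct.total (f := M)))
        refine Eq.trans ?_ (R.map_sum (fun j => biproduct.π M j ≫ biproduct.ι M j) Finset.univ).symm
        refine (R.map_comp _ _).symm.trans ?_
        refine (Finset.sum_eq_single (f := fun j => R.map (biproduct.π M j ≫ biproduct.ι M j)) k (fun i _ hik => ?_)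
          (fun h => absurd (Finset.mem_univ k) h)).symm
        rw [R.map_comp]
        exact (congrArg (fun m => m ≫ R.map (biproduct.ι M i))
          ((isZero_restr_extZero T σ hdis (Ne.symm hik) _).eq_of_tgt (R.map (biproduct.π M i)) 0)).trans zero_comp
    haveI : IsIso (R.map ((EtSix.extZeroModAdj Λ (σ k)).counit.app G)) := by
      haveI := isIso_unit (Λ := Λ) (σ k)
      haveI : IsIso ((EtSix.extZeroModAdj Λ (σ k)).unit.app (R.obj G) ≫ R.map ((EtSix.extZeroModAdj Λ (σ k)).counit.app G)) := by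
        rw [(EtSix.extZeroModAdj Λ (σ k)).right_triangle_components G]; exact IsIso.id _
      exact IsIso.of_isIso_comp_left ((EtSix.extZeroModAdj Λ (σ k)).unit.app (R.obj G)) _
    haveI : IsIso (R.map (biproduct.ι M k) ≫ R.map φ) := by
      rw [← R.map_comp, biproduct.ι_desc]; infer_instance
    exact IsIso.of_isIso_comp_left (R.map (biproduct.ι M k)) _
  haveI : IsIso φ := by
    refine isIso_of_stalks φ fun Ω _ _ ξ => ?_
    obtain ⟨k, hk⟩ := hcov (ξ default)
    have hr : Set.range ξ ⊆ Set.range (σ k) := by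
      rintro - ⟨z, rfl⟩; rwa [Subsingleton.elim z default]
    obtain ⟨v, rfl⟩ : ∃ v, v ≫ σ k = ξ := ⟨IsOpenImmersion.lift (σ k) ξ hr, IsOpenImmersion.lift_fac (σ k) ξ hr⟩
    haveI := hrestr k
    haveI : IsIso ((EtModW.pull Λ (σ k)).map φ) := (NatIso.isIso_map_iff (Lisse.pullIsoRestr (σ k)) φ).2 inferInstance
    exact (NatIso.isIso_map_iff (EtModStalk.stalkPullModIso (σ k) v) φ).1
      (inferInstanceAs (IsIso ((EtModW.stalk Λ v).map ((EtModW.pull Λ (σ k)).map φ))))
  exact ⟨asIso φ⟩

end Decomp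

end Groth.L28.ExtShriekMod
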