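import Groth.Agent.L28.ExtShriekMod.Main
import Groth.Agent.L28.ExtShriek.Pres
import Groth.Agent.L28.Pts.Constr
import Groth.Agent.L27.EtSite.Points

/-!
Lifting constructible quotients by finite sums of extensions by zero of the constant sheaf.
-/

set_option autoImplicit false
set_option linter.style.haveILetI false

universe u

open CategoryTheory CategoryTheory.Limits AlgebraicGeometry Opposite Topology

set_option backward.isDefEq.respectTransparency.types false

namespace Groth.L28.ExtShriekMod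

attribute [local instance] Abelian.hasFiniteBiproducts Groth.L27.ExtZero.jCont

variable {Λ : Type (u + 1)} [CommRing Λ] {X : Scheme.{u}}

variable (Λ) in
/-- `j_! Λ` for an object of the small etale site -/
noncomputable def sh (V : X.Etale) : EtModW.Mod Λ X :=
  haveI : AlgebraicGeometry.Etale (X := V.left) (Y := X) V.hom := V.prop
  (EtSix.extZeroMod Λ (U := V.left) (X := X) V.hom).obj (EtSix.constΛ Λ V.left)

theorem exists_map_of_section {F : EtModW.Mod Λ X} (V : X.Etale) (s : EtModW.sect Λ F V) :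
    ∃ (φ : sh Λ V ⟶ F) (t : EtModW.sect Λ (sh Λ V) V), φ.hom.app (op V) t = s := by
  haveI : AlgebraicGeometry.Etale (X := V.left) (Y := X) V.hom := V.prop
  let adj := (constantSheafAdj V.left.smallEtaleTopology (ModuleCat.{u + 1} Λ) (EtCore.topIsTerminal V.left)).comp
    (EtSix.extZeroModAdj Λ (U := V.left) (X := X) V.hom)
  let W := (EtShriek.compEtale (U := V.left) (X := X) V.hom).obj (EtCoh.top V.left)
  let e : W ≅ V := ExtShriek.topIso V
  let ψ : ModuleCat.of Λ Λ ⟶ F.obj.obj (op W) :=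
    ModuleCat.ofHom (LinearMap.toSpanSingleton Λ (F.obj.obj (op W)) (F.obj.map e.hom.op s))
  let φ : sh Λ V ⟶ F := (adj.homEquiv (ModuleCat.of Λ Λ) F).symm ψ
  let t' : EtModW.sect Λ (sh Λ V) W := adj.unit.app (ModuleCat.of Λ Λ) (1 : Λ)
  refine ⟨φ, (sh Λ V).obj.map e.inv.op t', ?_⟩
  have h := (adj.homEquiv_unit (X := ModuleCat.of Λ Λ) (Y := F) (f := φ)).symm.trans (Equiv.apply_symm_apply _ ψ)
  have h' : φ.hom.app (op W) t' = F.obj.map e.hom.op s :=
    (congrArg (fun m : ModuleCat.of Λ Λ ⟶ F.obj.obj (op W) => m (1 : Λ)) h).trans (one_smul Λ _)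
  refine (NatTrans.naturality_apply φ.hom e.inv.op t').trans ((congrArg (fun r => F.obj.map e.inv.op r) h').trans ?_)
  rw [← ConcreteCategory.comp_apply, ← F.obj.map_comp, ← op_comp, e.inv_hom_id, op_id, F.obj.map_id]
  rfl

theorem exists_atom {F : EtModW.Mod Λ X} {Ω : Type u} [Field Ω] [IsSepClosed Ω] (ξ : Spec (CommRingCat.of Ω) ⟶ X)
    (a : (EtModW.stalk Λ ξ).obj F) :
    ∃ (V : X.Etale) (_ : IsAffine V.left) (φ : sh Λ V ⟶ F), a ∈ Set.range ((EtModW.stalk Λ ξ).map φ) := by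
  let Φ := Scheme.pointSmallEtale ξ
  obtain ⟨V₀, y₀, s₀, hs₀⟩ := Φ.toPresheafFiber_jointly_surjective (P := F.obj) a
  obtain ⟨V, g, y, hV, hy⟩ := ExtShriek.exists_affine_refine V₀ y₀
  obtain ⟨φ, t, ht⟩ := exists_map_of_section V (F.obj.map g.op s₀)
  refine ⟨V, hV, φ, Φ.toPresheafFiber V y (sh Λ V).obj t, ?_⟩
  refine (GrothendieckTopology.Point.toPresheafFiber_naturality_apply Φ φ.hom V y t).trans ?_
  refine (congrArg (fun r => Φ.toPresheafFiber V y F.obj r) ht).trans ?_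
  rw [GrothendieckTopology.Point.toPresheafFiber_w_apply, hy, hs₀]

theorem isConstructible_sh [IsNoetherianRing Λ] [CompactSpace X] [QuasiSeparatedSpace X] (V : X.Etale)
    [CompactSpace V.left] [QuasiSeparatedSpace V.left] : EtModW.IsConstructible Λ (sh Λ V) :=
  haveI : AlgebraicGeometry.Etale (X := V.left) (Y := X) V.hom := V.prop
  isConstructible_extZero_constΛ (U := V.left) (X := X) V.hom

theorem exists_nhd_zero_stalks [CompactSpace X] [QuasiSeparatedSpace X] {Q : EtModW.Mod Λ X}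
    (hQ : EtModW.IsConstructible Λ Q) {Ω : Type u} [Field Ω] [IsSepClosed Ω] (ξ : Spec (CommRingCat.of Ω) ⟶ X)
    [Subsingleton ((EtModW.stalk Λ ξ).obj Q)] :
    ∃ C : Set X, Topology.IsConstructible C ∧ ξ.base default ∈ C ∧
      ∀ (Ω' : Type u) [Field Ω'] [IsSepClosed Ω'] (ξ' : Spec (CommRingCat.of Ω') ⟶ X),
        ξ'.base default ∈ C → Subsingleton ((EtModW.stalk Λ ξ').obj Q) := by
  rw [Strata.isConstructibleMod_iff, Strata.loc_iff_strat (Strata.stable_ftPred Q)] at hQ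
  obtain ⟨n, T, g, h1, h2, -, h4, h5⟩ := hQ
  obtain ⟨i, t, ht⟩ := Set.mem_iUnion.1 (h4.symm ▸ Set.mem_univ (ξ.base default) : ξ.base default ∈ ⋃ i, Set.range (g i))
  obtain ⟨ι, U, hU, hM⟩ := h5 i
  obtain ⟨k, z, hz⟩ := hU t
  obtain ⟨M, _, _, _, ⟨e⟩⟩ := hM k
  haveI := h1 i
  haveI : AlgebraicGeometry.Etale (U k).hom := (U k).prop
  have model : ∀ (Ω' : Type u) [Field Ω'] [IsSepClosed Ω'] (ξ' : Spec (CommRingCat.of Ω') ⟶ T i),
      ξ'.base default ∈ Set.range (U k).hom → Nonempty ((EtModW.stalk Λ (ξ' ≫ g i)).obj Q ≅ ModuleCat.of Λ M) := by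
    rintro Ω' _ _ ξ' ⟨w, hw⟩
    obtain ⟨y, -⟩ := Groth.L27.EtSite.exists_fiber ξ' (U k) w hw
    exact ⟨((EtModStalk.stalkPullModIso (g i) ξ').app Q).symm ≪≫
      ((Pts.sheafFiberOverIso (Scheme.pointSmallEtale ξ') y).app _).symm ≪≫
      ((Scheme.pointSmallEtale ξ').over y).sheafFiber.mapIso e ≪≫
      Pts.sheafFiberConstIso _ (EtModStalk.restr_inverted ξ' y) _⟩
  have hM0 : Subsingleton M := by
    obtain ⟨ξ', rfl⟩ := EtModStalk.exists_lift (g i) ξ ⟨t, ht⟩
    obtain ⟨e'⟩ := model Ω ξ' ⟨z, hz.trans ((g i).isEmbedding.injective ht)⟩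
    exact e'.toLinearEquiv.symm.toEquiv.subsingleton
  haveI : CompactSpace (T i) := ⟨(g i).isEmbedding.isCompact_iff.2 (by
    rw [Set.image_univ]; exact Strata.isCompact_of_isConstructible (h2 i))⟩
  haveI : QuasiSeparatedSpace (T i) := quasiSeparatedSpace_of_quasiSeparated (g i)
  obtain ⟨O, hO, htO, hOU⟩ := Strata.exists_affine (X := T i) (x := t) (s := Set.range (U k).hom) ⟨z, hz⟩
    (U k).hom.isOpenMap.isOpen_range
  refine ⟨g i '' O, Strata.isConstructible_image (g i) (h2 i) (hO.isCompact.isConstructible O.2), ⟨t, htO, ht⟩, ?_⟩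
  intro Ω' _ _ ξ' hξ'
  obtain ⟨t', ht'O, ht'⟩ := hξ'
  obtain ⟨ξ'', rfl⟩ := EtModStalk.exists_lift (g i) ξ' ⟨t', ht'⟩
  have htt : t' = ξ''.base default := (g i).isEmbedding.injective ht'
  obtain ⟨e'⟩ := model Ω' ξ'' (hOU (htt ▸ ht'O))
  exact e'.toLinearEquiv.toEquiv.subsingleton

theorem surjective_map_desc {ι : Type} [Finite ι] {M : ι → EtModW.Mod Λ X} {F : EtModW.Mod Λ X} (φ : ∀ i, M i ⟶ F)
    {Ω : Type u} [Field Ω] [IsSepClosed Ω] (ξ : Spec (CommRingCat.of Ω) ⟶ X) {a : (EtModW.stalk Λ ξ).obj F} {i : ι}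
    (ha : a ∈ Set.range ((EtModW.stalk Λ ξ).map (φ i))) :
    a ∈ Set.range ((EtModW.stalk Λ ξ).map (biproduct.desc φ)) := by
  obtain ⟨t, rfl⟩ := ha
  refine ⟨(EtModW.stalk Λ ξ).map (biproduct.ι M i) t, ?_⟩
  rw [← ConcreteCategory.comp_apply, ← Functor.map_comp, biproduct.ι_desc]

theorem stalk_subsingleton_cokernel_iff {F G : EtModW.Mod Λ X} (φ : F ⟶ G) {Ω : Type u} [Field Ω] [IsSepClosed Ω]
    (ξ : Spec (CommRingCat.of Ω) ⟶ X) :
    Subsingleton ((EtModW.stalk Λ ξ).obj (cokernel φ)) ↔ Function.Surjective ((EtModW.stalk Λ ξ).map φ) := by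
  haveI : PreservesColimitsOfSize.{0, 0} (EtModW.stalk Λ ξ) :=
    ((Scheme.pointSmallEtale ξ).skyscraperSheafAdjunction).leftAdjoint_preservesColimits
  let e := (PreservesCokernel.iso (EtModW.stalk Λ ξ) φ).toLinearEquiv.toEquiv
  rw [← ModuleCat.epi_iff_surjective, Preadditive.epi_iff_isZero_cokernel]
  constructor
  · intro h
    haveI := e.symm.subsingleton
    exact ModuleCat.isZero_of_subsingleton _
  · intro h
    haveI := ModuleCat.subsingleton_of_isZero h
    exact e.subsingleton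

theorem hom_sum_apply {A B : ModuleCat.{u + 1} Λ} {ι : Type} [Fintype ι] (g : ι → (A ⟶ B)) (r : A) :
    (∑ i, g i) r = ∑ i, g i r := by simp

/-- A constructible quotient is covered by finitely many extensions by zero of the constant sheaf. -/
theorem exists_epi_lift [IsNoetherianRing Λ] [CompactSpace X] [QuasiSeparatedSpace X] {Z F : EtModW.Mod Λ X}
    (p : Z ⟶ F) [Epi p] (hF : EtModW.IsConstructible Λ F) :
    ∃ (m : ℕ) (U : Fin m → X.Etale), (∀ k, IsAffine (U k).left) ∧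
      ∃ φ : (⨁ fun k => sh Λ (U k)) ⟶ Z, Epi (φ ≫ p) := by
  classical
  have hpsurj : ∀ (Ω : Type u) [Field Ω] [IsSepClosed Ω] (ξ : Spec (CommRingCat.of Ω) ⟶ X),
      Function.Surjective ((EtModW.stalk Λ ξ).map p) := fun Ω _ _ ξ => by
    haveI : Sheaf.IsLocallySurjective p := (Sheaf.isLocallySurjective_iff_epi' (ModuleCat.{u + 1} Λ) p).2 inferInstance
    exact GrothendieckTopology.Point.toPresheafFiber_map_surjective (Scheme.pointSmallEtale ξ) p.hom
  have local_ : ∀ x : X, ∃ (a : ℕ) (U : Fin a → X.Etale) (φ : ∀ i, sh Λ (U i) ⟶ Z) (C : Set X),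
      (∀ i, IsAffine (U i).left) ∧ Topology.IsConstructible C ∧ x ∈ C ∧
        ∀ (Ω : Type u) [Field Ω] [IsSepClosed Ω] (ξ : Spec (CommRingCat.of Ω) ⟶ X), ξ.base default ∈ C →
          Function.Surjective ((EtModW.stalk Λ ξ).map (biproduct.desc φ ≫ p)) := by
    intro x
    obtain ⟨Ω, _, _, ξ, hξ⟩ := Groth.L27.EtSite.exists_geometric_point x
    haveI := EtModStalk.finite_stalk_of_isConstructible hF ξ
    obtain ⟨a, gen, hgen⟩ := Module.Finite.exists_fin (R := Λ) (M := (EtModW.stalk Λ ξ).obj F)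
    choose b hb using fun i => hpsurj Ω ξ (gen i)
    choose U hU φ hφ using fun i => exists_atom ξ (b i)
    have hQ : EtModW.IsConstructible Λ (cokernel (biproduct.desc φ ≫ p)) := by
      refine (Strata.isConstructibleMod_kernel_cokernel _ (isConstructible_biproduct _ fun i => ?_) hF).2
      haveI := hU i
      exact isConstructible_sh _
    haveI : Subsingleton ((EtModW.stalk Λ ξ).obj (cokernel (biproduct.desc φ ≫ p))) := by
      refine (stalk_subsingleton_cokernel_iff _ ξ).2 ?_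
      intro c
      have hc : c ∈ LinearMap.range ((EtModW.stalk Λ ξ).map (biproduct.desc φ ≫ p)).hom := by
        have hle : Submodule.span Λ (Set.range gen) ≤ LinearMap.range ((EtModW.stalk Λ ξ).map (biproduct.desc φ ≫ p)).hom := by
          rw [Submodule.span_le]
          rintro _ ⟨i, rfl⟩
          obtain ⟨r, hr⟩ := surjective_map_desc φ ξ (hφ i)
          refine ⟨r, ?_⟩
          show (EtModW.stalk Λ ξ).map (biproduct.desc φ ≫ p) r = gen i
          rw [Functor.map_comp, ConcreteCategory.comp_apply, hr, hb i]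
        exact hle (hgen ▸ Submodule.mem_top)
      exact hc
    obtain ⟨C, hC, hxC, hCs⟩ := exists_nhd_zero_stalks hQ ξ
    exact ⟨a, U, φ, C, hU, hC, hξ ▸ hxC, fun Ω' _ _ ξ' hξ' =>
      (stalk_subsingleton_cokernel_iff _ ξ').1 (hCs Ω' ξ' hξ')⟩
  choose a U φ C hU hC hxC hsurj using local_
  obtain ⟨t, ht⟩ := (CompactSpace.isCompact_univ (X := WithConstructibleTopology X)).elim_finite_subcover
    (fun x => (WithTopology.ofTopology : WithConstructibleTopology X → X) ⁻¹' C x)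
    (fun x => ExtShriek.isOpen_constructible (hC x)) (fun z _ => Set.mem_iUnion.2 ⟨WithTopology.ofTopology z, hxC _⟩)
  obtain ⟨m, ⟨σ⟩⟩ := Finite.exists_equiv_fin (Σ x : t, Fin (a x.1))
  refine ⟨m, fun k => U (σ.symm k).1.1 (σ.symm k).2, fun k => hU _ _,
    biproduct.desc fun k => φ (σ.symm k).1.1 (σ.symm k).2, ?_⟩
  let Φ := biproduct.desc fun k => φ (σ.symm k).1.1 (σ.symm k).2
  haveI : Sheaf.IsLocallySurjective (Φ ≫ p) := by
    haveI : AB5OfSize.{u, u} (ModuleCat.{u + 1} Λ) := AB5OfSize_shrink.{u, u, u + 1, u + 1} _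
    refine Groth.L27.EtSite.isLocallySurjective_of_stalks _ fun Ω _ _ ξ c => ?_
    obtain ⟨x, hx, hz⟩ := Set.mem_iUnion₂.1
      (ht (Set.mem_univ (WithTopology.toTopology (constructibleTopology X) (ξ.base default))))
    obtain ⟨r, rfl⟩ := hsurj x Ω ξ hz c
    let F₀ := EtModW.stalk Λ ξ
    let S : Submodule Λ (F₀.obj F) := LinearMap.range (F₀.map (Φ ≫ p)).hom
    have hmem : ∀ (q : Σ x : t, Fin (a x.1)) (y : F₀.obj (sh Λ (U q.1.1 q.2))),
        F₀.map (φ q.1.1 q.2 ≫ p) y ∈ S := by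
      intro q
      obtain ⟨k, rfl⟩ := σ.symm.surjective q
      intro y
      obtain ⟨r, hr⟩ := surjective_map_desc (fun k => φ (σ.symm k).1.1 (σ.symm k).2) ξ (i := k) ⟨y, rfl⟩
      refine ⟨r, ?_⟩
      show F₀.map (Φ ≫ p) r = _
      rw [Functor.map_comp, Functor.map_comp, ConcreteCategory.comp_apply, ConcreteCategory.comp_apply]
      exact congrArg (fun w => F₀.map p w) hr
    have e : F₀.map (biproduct.desc (φ x) ≫ p) =
        ∑ i, F₀.map (biproduct.π (fun i => sh Λ (U x i)) i) ≫ F₀.map (φ x i ≫ p) := by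
      refine (congrArg (fun m => F₀.map (m ≫ p)) biproduct.desc_eq).trans ?_
      simp only [Preadditive.sum_comp, Category.assoc, Functor.map_sum, Functor.map_comp]
    show F₀.map (biproduct.desc (φ x) ≫ p) r ∈ S
    rw [e]
    rw [hom_sum_apply]
    exact Submodule.sum_mem _ fun i _ => hmem ⟨⟨x, hx⟩, i⟩ _
  exact (Sheaf.isLocallySurjective_iff_epi' (ModuleCat.{u + 1} Λ) (Φ ≫ p)).1 inferInstance

end Groth.L28.ExtShriekMod
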