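import Groth.Agent.L28.ExtShriekMod.Atoms
import Mathlib.AlgebraicGeometry.Morphisms.QuasiSeparated

/-!
Extension by zero along quasi-compact quasi-separated étale morphisms preserves constructibility.
-/

set_option autoImplicit false
set_option linter.style.haveILetI false

universe u

open CategoryTheory CategoryTheory.Limits AlgebraicGeometry Opposite

set_option backward.isDefEq.respectTransparency.types false

namespace Groth.L28.ExtShriekMod

attribute [local instance] Abelian.hasFiniteBiproducts Groth.L27.ExtZero.jCont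

variable {Λ : Type (u + 1)} [CommRing Λ] [IsNoetherianRing Λ]

theorem exists_presentation {X : Scheme.{u}} [CompactSpace X] [QuasiSeparatedSpace X] {F : EtModW.Mod Λ X}
    (hF : EtModW.IsConstructible Λ F) :
    ∃ (a b : ℕ) (U : Fin a → X.Etale) (V : Fin b → X.Etale), (∀ i, IsAffine (U i).left) ∧ (∀ k, IsAffine (V k).left) ∧
      ∃ φ : (⨁ fun k => sh Λ (V k)) ⟶ (⨁ fun i => sh Λ (U i)), Nonempty (F ≅ cokernel φ) := by
  obtain ⟨a, U, hU, p, hp⟩ := exists_epi_lift (𝟙 F) hF
  rw [Category.comp_id] at hp
  have hK : EtModW.IsConstructible Λ (kernel p) := by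
    refine (Strata.isConstructibleMod_kernel_cokernel p (isConstructible_biproduct _ fun i => ?_) hF).1
    haveI := hU i
    exact isConstructible_sh _
  obtain ⟨b, V, hV, q, hq⟩ := exists_epi_lift (𝟙 (kernel p)) hK
  rw [Category.comp_id] at hq
  refine ⟨a, b, U, V, hU, hV, q ≫ kernel.ι p, ⟨?_⟩⟩
  exact (Abelian.epiIsCokernelOfKernel _ (kernelIsKernel p)).coconePointUniqueUpToIso (cokernelIsCokernel _) ≪≫
    (cokernelEpiComp q (kernel.ι p)).symm

theorem isConstructible_extZero_qcqs {U X : Scheme.{u}} [CompactSpace X] [QuasiSeparatedSpace X] [CompactSpace U]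
    [QuasiSeparatedSpace U] (f : U ⟶ X) [AlgebraicGeometry.Etale f] [EtShriek.JCont f] {F : EtModW.Mod Λ U}
    (hF : EtModW.IsConstructible Λ F) : EtModW.IsConstructible Λ ((EtSix.extZeroMod Λ f).obj F) := by
  obtain ⟨a, b, A, B, hA, hB, φ, ⟨e⟩⟩ := exists_presentation hF
  have key : ∀ (n : ℕ) (V : Fin n → U.Etale), (∀ k, IsAffine (V k).left) →
      EtModW.IsConstructible Λ ((EtSix.extZeroMod Λ f).obj (⨁ fun k => sh Λ (V k))) := by
    intro n V hV
    refine Strata.isConstructibleMod_of_iso ((EtSix.extZeroMod Λ f).mapBiproduct _).symm (isConstructible_biproduct _ fun k => ?_)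
    haveI : AlgebraicGeometry.Etale (X := (V k).left) (Y := U) (V k).hom := (V k).prop
    haveI := hV k
    exact Strata.isConstructibleMod_of_iso ((extZeroComp Λ (X := (V k).left) (Y := U) (V k).hom f).app _).symm
      (isConstructible_extZero_constΛ (U := (V k).left) (X := X) ((V k).hom ≫ f))
  refine Strata.isConstructibleMod_of_iso (PreservesCokernel.iso (EtSix.extZeroMod Λ f) φ ≪≫ Iso.refl _).symm ?_ |>
    Strata.isConstructibleMod_of_iso ((EtSix.extZeroMod Λ f).mapIso e).symm
  exact (Strata.isConstructibleMod_kernel_cokernel _ (key b B hB) (key a A hA)).2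

theorem isConstructible_extZero {U X : Scheme.{u}} (f : U ⟶ X) [AlgebraicGeometry.Etale f] [QuasiCompact f]
    [QuasiSeparated f] [EtShriek.JCont f] {F : EtModW.Mod Λ U} (hF : EtModW.IsConstructible Λ F) :
    EtModW.IsConstructible Λ ((EtSix.extZeroMod Λ f).obj F) := by
  rw [Strata.isConstructibleMod_iff]
  intro W hW
  haveI : IsAffine W.toScheme := hW
  haveI : CompactSpace ↥(pullback f W.ι) := QuasiCompact.compactSpace_of_compactSpace (pullback.snd f W.ι)
  haveI : QuasiSeparatedSpace ↥(pullback f W.ι) := quasiSeparatedSpace_of_quasiSeparated (pullback.snd f W.ι)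
  have h := Strata.isConstructibleMod_of_iso ((extZeroPullIso Λ (IsPullback.of_hasPullback f W.ι)).app F).symm
    (isConstructible_extZero_qcqs (pullback.snd f W.ι) (Strata.isConstructibleMod_pull (pullback.fst f W.ι) hF))
  rw [Strata.isConstructibleMod_iff] at h
  exact ((Strata.loc_iff_strat (Strata.stable_ftPred _)).1 h).mono fun T g hg =>
    (Strata.ftPred_comp _ W.ι g).1 hg

end Groth.L28.ExtShriekMod
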