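import Groth.Agent.L28.ExtShriekMod.Split
import Groth.Agent.L28.ExtShriek.ConstIso
import Groth.Agent.S9559
import Groth.Agent.L28.EtaleStrata.Main
import Mathlib.AlgebraicGeometry.Limits

/-!
Extension by zero of locally constant sheaves of modules of finite type along étale morphisms is constructible.
-/

set_option autoImplicit false
set_option linter.style.haveILetI false

universe u

open CategoryTheory CategoryTheory.Limits AlgebraicGeometry Opposite

set_option backward.isDefEq.respectTransparency.types false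

namespace Groth.L28.ExtShriekMod

attribute [local instance] Abelian.hasFiniteBiproducts

variable {Λ : Type (u + 1)} [CommRing Λ]

theorem isFT_extZero_iso {V U : Scheme.{u}} (a : V ⟶ U) [IsIso a] [EtShriek.JCont a] (H : EtModW.Mod Λ V)
    (hH : EtModW.IsFTLocConst Λ H) : EtModW.IsFTLocConst Λ ((EtSix.extZeroMod Λ a).obj H) := by
  refine isFT_of_cover fun x => ⟨V, a, inferInstance, ?_, ?_⟩
  · exact a.surjective x
  · haveI := isIso_unit (Λ := Λ) a
    exact Strata.isFT_of_iso (asIso ((EtSix.extZeroModAdj Λ a).unit.app H) ≪≫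
      ((Lisse.pullIsoRestr a).app _).symm) hH

theorem isFT_extZero_of_finite [IsNoetherianRing Λ] {Y X : Scheme.{u}} (f : Y ⟶ X) [AlgebraicGeometry.Etale f]
    [IsFinite f] [EtShriek.JCont f] (G : EtModW.Mod Λ Y) (hG : EtModW.IsFTLocConst Λ G) :
    EtModW.IsFTLocConst Λ ((EtSix.extZeroMod Λ f).obj G) := by
  refine isFT_of_cover fun x => ?_
  obtain ⟨T, g, hg, u, hu, n, V, c, hc, e, he⟩ := Groth.Agent.S9559.result f x
  refine ⟨T, g, hg, ⟨u, hu⟩, ?_⟩
  haveI := Groth.L27.ExtZero.jCont (pullback.snd f g)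
  refine Strata.isFT_of_iso ((extZeroPullIso Λ (IsPullback.of_hasPullback f g)).app G).symm ?_
  set G' := (EtModW.pull Λ (pullback.fst f g)).obj G
  have hG' : EtModW.IsFTLocConst Λ G' := LocConst.isFTLocConst_pull _ G hG
  let σ : ∀ k, V k ⟶ pullback f g := fun k => Sigma.ι V k ≫ e.hom
  haveI : ∀ k, IsOpenImmersion (σ k) := fun k => inferInstanceAs (IsOpenImmersion (Sigma.ι V k ≫ e.hom))
  have hdis : Pairwise fun k l => Disjoint (Set.range (σ k)) (Set.range (σ l)) := by
    intro k l hkl
    show Disjoint (Set.range (Sigma.ι V k ≫ e.hom)) (Set.range (Sigma.ι V l ≫ e.hom))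
    rw [Scheme.Hom.comp_base, TopCat.coe_comp, Set.range_comp, Scheme.Hom.comp_base, TopCat.coe_comp, Set.range_comp]
    exact Set.disjoint_image_of_injective e.hom.isEmbedding.injective
      (TopologicalSpace.Opens.coe_disjoint.2 (disjoint_opensRange_sigmaι V k l hkl))
  have hcov : ∀ z, ∃ k, z ∈ Set.range (σ k) := by
    intro z
    obtain ⟨k, y, hy⟩ := (Scheme.IsLocallyDirected.ι_jointly_surjective (Discrete.functor V) (e.inv z))
    refine ⟨k.as, y, ?_⟩
    show e.hom (Sigma.ι V k.as y) = z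
    rw [show Sigma.ι V k.as y = e.inv z from hy, ← Scheme.Hom.comp_apply, e.inv_hom_id]
    rfl
  obtain ⟨d⟩ := nonempty_decomp V σ hdis hcov G'
  refine Strata.isFT_of_iso (((EtSix.extZeroMod Λ (pullback.snd f g)).mapBiproduct _).symm ≪≫
    (EtSix.extZeroMod Λ (pullback.snd f g)).mapIso d) (isFT_biproduct _ fun k => ?_)
  haveI hk : IsIso (σ k ≫ pullback.snd f g) := by
    show IsIso ((Sigma.ι V k ≫ e.hom) ≫ pullback.snd f g)
    rw [Category.assoc, he k]
    exact hc k
  refine Strata.isFT_of_iso ((extZeroComp Λ (σ k) (pullback.snd f g)).app _).symm ?_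
  exact isFT_extZero_iso (σ k ≫ pullback.snd f g) _
    (Strata.isFT_of_iso ((Lisse.pullIsoRestr (σ k)).app G') (LocConst.isFTLocConst_pull (σ k) G' hG'))

theorem isConstructible_extZero_of_isFT [IsNoetherianRing Λ] {U X : Scheme.{u}} [CompactSpace X]
    [QuasiSeparatedSpace X] [CompactSpace U] [QuasiSeparatedSpace U] (f : U ⟶ X) [AlgebraicGeometry.Etale f]
    [EtShriek.JCont f] (F : EtModW.Mod Λ U) (hF : EtModW.IsFTLocConst Λ F) :
    EtModW.IsConstructible Λ ((EtSix.extZeroMod Λ f).obj F) := by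
  rw [Strata.isConstructibleMod_iff]
  refine (Strata.loc_iff_strat (Strata.stable_ftPred _)).2 ((EtaleStrata.strat_finPred f).mono fun T g hg => ?_)
  haveI : IsFinite (pullback.snd f g) := hg
  haveI := Groth.L27.ExtZero.jCont (pullback.snd f g)
  exact Strata.isFT_of_iso ((extZeroPullIso Λ (IsPullback.of_hasPullback f g)).app F).symm
    (isFT_extZero_of_finite (pullback.snd f g) _ (LocConst.isFTLocConst_pull _ F hF))

theorem isFT_constΛ (X : Scheme.{u}) : EtModW.IsFTLocConst Λ (EtSix.constΛ Λ X) :=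
  ⟨PUnit, fun _ => EtCoh.top X, fun x => ⟨PUnit.unit, x, rfl⟩,
    fun _ => ⟨Λ, inferInstance, inferInstance, inferInstance,
      ⟨LocConst.constCompat (J := X.smallEtaleTopology.over (EtCoh.top X)) (K := X.smallEtaleTopology)
        (Over.forget (EtCoh.top X)) _⟩⟩⟩

theorem isConstructible_extZero_constΛ [IsNoetherianRing Λ] {U X : Scheme.{u}} [CompactSpace X]
    [QuasiSeparatedSpace X] [CompactSpace U] [QuasiSeparatedSpace U] (f : U ⟶ X) [AlgebraicGeometry.Etale f]
    [EtShriek.JCont f] : EtModW.IsConstructible Λ ((EtSix.extZeroMod Λ f).obj (EtSix.constΛ Λ U)) :=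
  isConstructible_extZero_of_isFT f _ (isFT_constΛ U)

end Groth.L28.ExtShriekMod
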