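import Groth.Agent.L28.ExtShriek.BaseChange
import Groth.Agent.L28.Strata.EtMod
import Groth.Prelude.Def_SixF2
import Mathlib.CategoryTheory.MorphismProperty.OverAdjunction

/-!
Extension by zero of sheaves of modules: base change and composition.
-/

set_option autoImplicit false
set_option linter.style.haveILetI false

universe u

open CategoryTheory CategoryTheory.Limits AlgebraicGeometry Opposite

set_option backward.isDefEq.respectTransparency.types false

namespace Groth.L28.ExtShriekMod

variable (Λ : Type (u + 1)) [CommRing Λ]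

section

variable {U X U' X' : Scheme.{u}} {f : U ⟶ X} {g : X' ⟶ X} {f' : U' ⟶ X'} {g' : U' ⟶ U}
  [Etale f] [Etale f'] (sq : IsPullback g' f' f g) [EtShriek.JCont f] [EtShriek.JCont f']

include sq

/-- restriction along an etale morphism commutes with direct image -/
noncomputable def pushRestrIso : EtModW.push Λ g ⋙ EtSix.restrMod Λ f ≅
    EtSix.restrMod Λ f' ⋙ EtModW.push Λ g' :=
  haveI : (EtShriek.compEtale f ⋙ EtCoh.bc g).IsContinuous U.smallEtaleTopology X'.smallEtaleTopology :=
    Functor.isContinuous_comp _ _ _ X.smallEtaleTopology _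
  Functor.sheafPushforwardContinuousComp' (F := EtShriek.compEtale f) (G := EtCoh.bc g)
      (FG := EtShriek.compEtale f ⋙ EtCoh.bc g) (Iso.refl _) (ModuleCat.{u + 1} Λ)
      U.smallEtaleTopology X.smallEtaleTopology X'.smallEtaleTopology ≪≫
    (Functor.sheafPushforwardContinuousComp' (F := EtCoh.bc g') (G := EtShriek.compEtale f')
      (FG := EtShriek.compEtale f ⋙ EtCoh.bc g) (ExtShriek.siteIso sq) (ModuleCat.{u + 1} Λ)
      U.smallEtaleTopology U'.smallEtaleTopology X'.smallEtaleTopology).symm

/-- extension by zero along an etale morphism commutes with inverse image -/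
noncomputable def extZeroPullIso : EtSix.extZeroMod Λ f ⋙ EtModW.pull Λ g ≅
    EtModW.pull Λ g' ⋙ EtSix.extZeroMod Λ f' :=
  Adjunction.leftAdjointUniq ((EtSix.extZeroModAdj Λ f).comp (Strata.pullPushAdjMod g))
    (((Strata.pullPushAdjMod g').comp (EtSix.extZeroModAdj Λ f')).ofNatIsoRight (pushRestrIso Λ sq).symm)

end

section Comp

variable {X Y Z : Scheme.{u}} (a : X ⟶ Y) (b : Y ⟶ Z) [AlgebraicGeometry.Etale a] [AlgebraicGeometry.Etale b]
  [EtShriek.JCont a] [EtShriek.JCont b] [EtShriek.JCont (a ≫ b)]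

/-- restrictions compose -/
noncomputable def restrComp : EtSix.restrMod Λ b ⋙ EtSix.restrMod Λ a ≅ EtSix.restrMod Λ (a ≫ b) :=
  Functor.sheafPushforwardContinuousComp' (F := EtShriek.compEtale a) (G := EtShriek.compEtale b)
    (FG := EtShriek.compEtale (a ≫ b))
    ((MorphismProperty.Over.mapComp (Q := ⊤) (P := EtCoh.etaleMP.{u}) (inferInstanceAs (AlgebraicGeometry.Etale a))
      (inferInstanceAs (AlgebraicGeometry.Etale b)) (a ≫ b) rfl).symm)
    (ModuleCat.{u + 1} Λ) X.smallEtaleTopology Y.smallEtaleTopology Z.smallEtaleTopology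

/-- extensions by zero compose -/
noncomputable def extZeroComp : EtSix.extZeroMod Λ a ⋙ EtSix.extZeroMod Λ b ≅ EtSix.extZeroMod Λ (a ≫ b) :=
  Adjunction.leftAdjointUniq
    (((EtSix.extZeroModAdj Λ a).comp (EtSix.extZeroModAdj Λ b)).ofNatIsoRight (restrComp Λ a b))
    (EtSix.extZeroModAdj Λ (a ≫ b))

end Comp

end Groth.L28.ExtShriekMod
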